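import Mathlib

/-!
# Integral closure of the base field in global functions is independent of the base field
(algebra part) (helper24)
-/

set_option autoImplicit false
universe u
open Polynomial

namespace Groth.Agent.Lib.Helper24.IntIndep

/-- In a reduced algebra over a field, an integral element is von Neumann regular. -/
theorem exists_eq_sq_mul {k B : Type*} [Field k] [CommRing B] [IsReduced B] [Algebra k B]
    (s : B) (hs : IsIntegral k s) : ∃ t : B, s = s * s * t := by
  let A := Algebra.adjoin k {s}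
  haveI : Module.Finite k A := Algebra.finite_adjoin_simple_of_isIntegral hs
  haveI : IsArtinianRing A := IsArtinianRing.of_finite k A
  obtain ⟨n, t, h⟩ := IsArtinian.exists_pow_succ_smul_dvd
    (⟨s, Algebra.self_mem_adjoin_singleton k s⟩ : A) (1 : A)
  have h' : s ^ (n + 1) * (t : B) = s ^ n := by
    have := congrArg (Subtype.val) h
    simpa using this
  refine ⟨t, ?_⟩
  have h2 : (s - s * s * t) ^ (n + 1) = 0 := by
    have e1 : s - s * s * (t : B) = s * (1 - s * t) := by ring
    have e2 : s ^ (n + 1) * (1 - s * (t : B)) ^ (n + 1) =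
        (s ^ n - s ^ (n + 1) * t) * (s * (1 - s * t) ^ n) := by ring
    rw [e1, mul_pow, e2, h', sub_self, zero_mul]
  have h3 : s - s * s * t = 0 := IsReduced.eq_zero _ ⟨n + 1, h2⟩
  exact sub_eq_zero.mp h3

/-- Lemma A: a transcendental element of a finitely generated domain over a field takes
non-unit values at almost all irreducible polynomials. -/
theorem exists_ne_zero_not_isUnit {k D : Type*} [Field k] [CommRing D] [IsDomain D] [Algebra k D]
    [Algebra.FiniteType k D] (a : D) (ha : Transcendental k a) :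
    ∃ g : k[X], g ≠ 0 ∧ ∀ π : k[X], Irreducible π → ¬ π ∣ g → ¬ IsUnit (aeval a π) := by
  classical
  let f : k[X] →+* D := (aeval a : k[X] →ₐ[k] D).toRingHom
  have hinj : Function.Injective f := transcendental_iff_injective.mp ha
  have hft : f.FiniteType := by
    have h1 : (f.comp (C : k →+* k[X])).FiniteType := by
      have : f.comp (C : k →+* k[X]) = algebraMap k D := by
        ext c
        simp [f]
      rw [this]
      exact (RingHom.finiteType_algebraMap).mpr inferInstance
    exact RingHom.FiniteType.of_comp_finiteType h1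
  have hfp : f.FinitePresentation := RingHom.FinitePresentation.of_finiteType.mp hft
  have hc := PrimeSpectrum.isConstructible_range_comap hfp
  obtain ⟨S, hS⟩ := PrimeSpectrum.exists_constructibleSetData_iff.mpr hc
  have hbot : (⟨⊥, Ideal.isPrime_bot⟩ : PrimeSpectrum k[X]) ∈ S.toSet := by
    rw [hS]
    refine ⟨⟨⊥, Ideal.isPrime_bot⟩, ?_⟩
    ext1
    show Ideal.comap f ⊥ = ⊥
    rw [← RingHom.ker_eq_comap_bot, (RingHom.injective_iff_ker_eq_bot f).mp hinj]
  simp only [PrimeSpectrum.ConstructibleSetData.toSet, Set.mem_iUnion] at hbot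
  obtain ⟨C₀, hC₀, hmem⟩ := hbot
  obtain ⟨hz, hnz⟩ := hmem
  have hg0 : ∀ i, C₀.g i = 0 := by
    intro i
    have := hz (Set.mem_range_self i)
    simpa using this
  have hf0 : C₀.f ≠ 0 := by
    intro h0
    apply hnz
    rw [PrimeSpectrum.mem_zeroLocus]
    intro y hy
    rw [Set.mem_singleton_iff] at hy
    rw [hy, h0]
    exact Submodule.zero_mem _
  refine ⟨C₀.f, hf0, ?_⟩
  intro π hπ hdvd hunit
  have hπprime : (Ideal.span {π}).IsPrime := by
    rw [Ideal.span_singleton_prime hπ.ne_zero]
    exact hπ.prime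
  let P : PrimeSpectrum k[X] := ⟨Ideal.span {π}, hπprime⟩
  have hP : P ∈ S.toSet := by
    simp only [PrimeSpectrum.ConstructibleSetData.toSet, Set.mem_iUnion]
    refine ⟨C₀, hC₀, ?_, ?_⟩
    · rw [PrimeSpectrum.mem_zeroLocus]
      rintro _ ⟨i, rfl⟩
      rw [hg0 i]
      exact Submodule.zero_mem _
    · intro h
      rw [PrimeSpectrum.mem_zeroLocus] at h
      have := h (Set.mem_singleton _)
      exact hdvd (Ideal.mem_span_singleton.mp this)
  rw [hS] at hP
  obtain ⟨Q, hQ⟩ := hP
  have h1 : π ∈ (PrimeSpectrum.comap f Q).asIdeal := by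
    rw [hQ]
    exact Ideal.subset_span (Set.mem_singleton _)
  have h2 : aeval a π ∈ Q.asIdeal := h1
  exact Q.isPrime.ne_top (Ideal.eq_top_of_isUnit_mem _ h2 hunit)

/-- Euclid: there are infinitely many irreducible polynomials over a field. -/
theorem exists_irreducible_not_associated {F : Type*} [Field F] (E : Finset F[X]) :
    ∃ h : F[X], Irreducible h ∧ ∀ e ∈ E, Irreducible e → ¬ Associated h e := by
  classical
  let P : F[X] := X * ∏ e ∈ E.filter (fun e => e ≠ 0), e + 1
  have hprod : ∏ e ∈ E.filter (fun e => e ≠ 0), e ≠ 0 := by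
    rw [Finset.prod_ne_zero_iff]
    intro e he
    exact (Finset.mem_filter.mp he).2
  have hdeg : 0 < P.natDegree := by
    have h1 : (X * ∏ e ∈ E.filter (fun e => e ≠ 0), e).natDegree =
        1 + (∏ e ∈ E.filter (fun e => e ≠ 0), e).natDegree := by
      rw [natDegree_mul X_ne_zero hprod, natDegree_X]
    have h2 : P.natDegree = (X * ∏ e ∈ E.filter (fun e => e ≠ 0), e).natDegree := by
      apply natDegree_add_eq_left_of_natDegree_lt
      rw [natDegree_one, h1]
      omega
    rw [h2, h1]
    omega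
  have hP0 : P ≠ 0 := fun h => by rw [h, natDegree_zero] at hdeg; exact lt_irrefl _ hdeg
  have hPu : ¬ IsUnit P := fun h => by
    rw [natDegree_eq_zero_of_isUnit h] at hdeg
    exact lt_irrefl _ hdeg
  obtain ⟨h, hirr, hdvd⟩ := WfDvdMonoid.exists_irreducible_factor hPu hP0
  refine ⟨h, hirr, ?_⟩
  intro e he heirr hass
  have h1 : h ∣ ∏ e ∈ E.filter (fun e => e ≠ 0), e :=
    hass.dvd.trans (Finset.dvd_prod_of_mem _ (Finset.mem_filter.mpr ⟨he, heirr.ne_zero⟩))
  have h2 : h ∣ X * ∏ e ∈ E.filter (fun e => e ≠ 0), e := Dvd.dvd.mul_left h1 _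
  have h3 : h ∣ 1 := (dvd_add_right h2).mp hdvd
  exact hirr.not_isUnit (isUnit_of_dvd_one h3)

theorem exists_irreducible_isCoprime_aux {F K : Type*} [Field F] [Field K] (φ : F →+* K) :
    ∀ (n : ℕ) (g : K[X]), g ≠ 0 → g.natDegree ≤ n → ∀ E : Finset F[X],
      ∃ h : F[X], Irreducible h ∧ (∀ e ∈ E, Irreducible e → ¬ Associated h e) ∧
        IsCoprime (h.map φ) g := by
  classical
  intro n
  induction n with
  | zero =>
    intro g hg hdeg E
    obtain ⟨h, hirr, hE⟩ := exists_irreducible_not_associated E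
    refine ⟨h, hirr, hE, ?_⟩
    have : IsUnit g := by
      rw [Polynomial.isUnit_iff]
      have h0 : g.natDegree = 0 := Nat.le_zero.mp hdeg
      obtain ⟨c, hc⟩ := natDegree_eq_zero.mp h0
      refine ⟨c, ?_, hc⟩
      rw [isUnit_iff_ne_zero]
      rintro rfl
      rw [map_zero] at hc
      exact hg hc.symm
    obtain ⟨u, hu⟩ := this.exists_right_inv
    exact ⟨0, u, by rw [zero_mul, zero_add, mul_comm, hu]⟩
  | succ n ih =>
    intro g hg hdeg E
    obtain ⟨h₁, hirr₁, hE₁⟩ := exists_irreducible_not_associated E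
    by_cases hcop : IsCoprime (h₁.map φ) g
    · exact ⟨h₁, hirr₁, hE₁, hcop⟩
    · have hd : ¬ IsUnit (EuclideanDomain.gcd (h₁.map φ) g) := by
        rwa [EuclideanDomain.gcd_isUnit_iff]
      obtain ⟨g', hg'⟩ := EuclideanDomain.gcd_dvd_right (h₁.map φ) g
      set d := EuclideanDomain.gcd (h₁.map φ) g with hd_def
      have hd0 : d ≠ 0 := fun h0 => hg (by rw [hg', h0, zero_mul])
      have hg'0 : g' ≠ 0 := fun h0 => hg (by rw [hg', h0, mul_zero])
      have hdpos : 0 < d.natDegree := by
        rw [Nat.pos_iff_ne_zero]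
        intro h0
        apply hd
        obtain ⟨c, hc⟩ := natDegree_eq_zero.mp h0
        rw [Polynomial.isUnit_iff]
        refine ⟨c, ?_, hc⟩
        rw [isUnit_iff_ne_zero]
        rintro rfl
        rw [map_zero] at hc
        exact hd0 hc.symm
      have hdeg' : g'.natDegree ≤ n := by
        have := natDegree_mul hd0 hg'0
        rw [← hg'] at this
        omega
      obtain ⟨h, hirr, hE, hcop'⟩ := ih g' hg'0 hdeg' (insert h₁ E)
      refine ⟨h, hirr, fun e he => hE e (Finset.mem_insert_of_mem he), ?_⟩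
      have hna : ¬ Associated h h₁ := hE h₁ (Finset.mem_insert_self _ _) hirr₁
      have hcop1 : IsCoprime h h₁ := by
        rw [hirr.coprime_iff_not_dvd]
        intro hdvd
        exact hna (hirr.associated_of_dvd hirr₁ hdvd)
      have hcop2 : IsCoprime (h.map φ) (h₁.map φ) := hcop1.map (Polynomial.mapRingHom φ)
      have hcop3 : IsCoprime (h.map φ) d :=
        hcop2.of_isCoprime_of_dvd_right (EuclideanDomain.gcd_dvd_left _ _)
      rw [hg']
      exact hcop3.mul_right hcop'

/-- Lemma AB: a transcendental element of a finitely generated domain over `k` takes a non-unit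
(and nonzero) value on some nonzero polynomial with coefficients in a given subfield. -/
theorem exists_ne_zero_not_isUnit_of_field {F k D : Type*} [Field F] [Field k] [CommRing D]
    [IsDomain D] [Algebra k D] [Algebra.FiniteType k D] (φ : F →+* k) (a : D)
    (ha : Transcendental k a) :
    ∃ h : F[X], h ≠ 0 ∧ ¬ IsUnit (aeval a (h.map φ)) := by
  obtain ⟨g, hg0, hg⟩ := exists_ne_zero_not_isUnit a ha
  obtain ⟨h, hirr, -, hcop⟩ := exists_irreducible_isCoprime_aux φ g.natDegree g hg0 le_rfl ∅
  refine ⟨h, hirr.ne_zero, ?_⟩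
  have hmap0 : h.map φ ≠ 0 := (Polynomial.map_ne_zero_iff φ.injective).mpr hirr.ne_zero
  have hnu : ¬ IsUnit (h.map φ) := by
    intro hu
    have h1 := natDegree_eq_zero_of_isUnit hu
    rw [natDegree_map] at h1
    have h2 : IsUnit h := by
      rw [Polynomial.isUnit_iff]
      obtain ⟨c, hc⟩ := natDegree_eq_zero.mp h1
      refine ⟨c, ?_, hc⟩
      rw [isUnit_iff_ne_zero]
      rintro rfl
      rw [map_zero] at hc
      exact hirr.ne_zero hc.symm
    exact hirr.not_isUnit h2
  obtain ⟨π, hπ, r, hr⟩ := WfDvdMonoid.exists_irreducible_factor hnu hmap0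
  have hπg : ¬ π ∣ g := by
    intro hdvd
    exact hπ.not_isUnit (hcop.isUnit_of_dvd' ⟨r, hr⟩ hdvd)
  intro hu
  rw [hr, map_mul] at hu
  exact hg π hπ hπg (isUnit_of_mul_isUnit_left hu)

end Groth.Agent.Lib.Helper24.IntIndep
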