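import Mathlib
import Groth.Agent.Lib.Helper24.IntIndep.Alg

/-!
# Integral closure of base field independent of base field: ring-level core (helper24)
-/

set_option autoImplicit false
universe u
open Polynomial

namespace Groth.Agent.Lib.Helper24.IntIndep

section ZU

variable {k₁ R : Type*} [Field k₁] [CommRing R] [IsReduced R]
  (hidem : ∀ e : R, IsIdempotentElem e → e = 0 ∨ e = 1) (φ₁ : k₁ →+* R)

include hidem in
/-- Elements integral over `k₁` in a reduced ring without idempotents are zero or units. -/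
theorem eq_zero_or_isUnit (s : R) (hs : φ₁.IsIntegralElem s) : s = 0 ∨ IsUnit s := by
  letI := φ₁.toAlgebra
  obtain ⟨t, ht⟩ := exists_eq_sq_mul (k := k₁) s hs
  have he : IsIdempotentElem (s * t) := by
    show s * t * (s * t) = s * t
    calc s * t * (s * t) = (s * s * t) * t := by ring
      _ = s * t := by rw [← ht]
  rcases hidem _ he with h0 | h1
  · left
    rw [ht, mul_assoc, h0, mul_zero]
  · right
    exact IsUnit.of_mul_eq_one t h1

end ZU

section Core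

variable {k₁ k₂ R : Type*} [Field k₁] [Field k₂] [CommRing R] [Nontrivial R]
  (φ₁ : k₁ →+* R) (φ₂ : k₂ →+* R)

/-- The subfield of `k₂` of elements whose image in `R` comes from `k₁`. -/
def commonSubfield : Subfield k₂ where
  carrier := {c | φ₂ c ∈ φ₁.range}
  mul_mem' := by
    rintro a b ⟨a', ha⟩ ⟨b', hb⟩
    exact ⟨a' * b', by rw [map_mul, map_mul, ha, hb]⟩
  one_mem' := ⟨1, by rw [map_one, map_one]⟩
  add_mem' := by
    rintro a b ⟨a', ha⟩ ⟨b', hb⟩
    exact ⟨a' + b', by rw [map_add, map_add, ha, hb]⟩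
  zero_mem' := ⟨0, by rw [map_zero, map_zero]⟩
  neg_mem' := by
    rintro a ⟨a', ha⟩
    exact ⟨-a', by rw [map_neg, map_neg, ha]⟩
  inv_mem' := by
    rintro a ⟨a', ha⟩
    by_cases h0 : a = 0
    · subst h0
      exact ⟨0, by rw [inv_zero, map_zero, map_zero]⟩
    · have ha'0 : a' ≠ 0 := by
        rintro rfl
        rw [map_zero] at ha
        exact h0 (φ₂.injective (by rw [← ha, map_zero]))
      refine ⟨a'⁻¹, ?_⟩
      have h1 : φ₂ a⁻¹ * φ₂ a = 1 := by rw [← map_mul, inv_mul_cancel₀ h0, map_one]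
      have h2 : φ₁ a' * φ₁ a'⁻¹ = 1 := by rw [← map_mul, mul_inv_cancel₀ ha'0, map_one]
      calc φ₁ a'⁻¹ = (φ₂ a⁻¹ * φ₂ a) * φ₁ a'⁻¹ := by rw [h1, one_mul]
        _ = φ₂ a⁻¹ * (φ₁ a' * φ₁ a'⁻¹) := by rw [← ha, mul_assoc]
        _ = φ₂ a⁻¹ := by rw [h2, mul_one]

theorem isIntegralElem_eval₂_commonSubfield (x : R) (hx : φ₁.IsIntegralElem x)
    (h : (commonSubfield φ₁ φ₂)[X]) :
    φ₁.IsIntegralElem (eval₂ φ₂ x (h.map (commonSubfield φ₁ φ₂).subtype)) := by
  letI := φ₁.toAlgebra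
  rw [eval₂_map, eval₂_eq_sum_range]
  show IsIntegral k₁ _
  refine IsIntegral.sum _ (fun i _ => ?_)
  have hx' : IsIntegral k₁ x := hx
  obtain ⟨d, hd⟩ := (h.coeff i).2
  have : (φ₂.comp (commonSubfield φ₁ φ₂).subtype) (h.coeff i) = algebraMap k₁ R d := hd.symm
  rw [this]
  exact isIntegral_algebraMap.mul (hx'.pow i)

variable [IsReduced R] (hidem : ∀ e : R, IsIdempotentElem e → e = 0 ∨ e = 1)

include hidem in
theorem isAlgebraic_quotient (x : R) (hx : φ₁.IsIntegralElem x)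
    {B : Type*} [CommRing B] (ρ : R →+* B) (hft : (ρ.comp φ₂).FiniteType)
    (p : Ideal B) [p.IsPrime] :
    ∃ Q : k₂[X], Q ≠ 0 ∧ eval₂ (ρ.comp φ₂) (ρ x) Q ∈ p := by
  let ψ : k₂ →+* (B ⧸ p) := (Ideal.Quotient.mk p).comp (ρ.comp φ₂)
  letI : Algebra k₂ (B ⧸ p) := ψ.toAlgebra
  haveI : Algebra.FiniteType k₂ (B ⧸ p) := by
    have : ψ.FiniteType :=
      (RingHom.FiniteType.of_surjective _ Ideal.Quotient.mk_surjective).comp hft
    exact this
  let a : B ⧸ p := Ideal.Quotient.mk p (ρ x)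
  have key : ∀ q : k₂[X], aeval a q = Ideal.Quotient.mk p (ρ (eval₂ φ₂ x q)) := by
    intro q
    rw [aeval_def, hom_eval₂, hom_eval₂]
    rfl
  by_contra hcon
  have htr : Transcendental k₂ a := by
    intro halg
    obtain ⟨Q, hQ0, hQ⟩ := halg
    apply hcon
    refine ⟨Q, hQ0, ?_⟩
    rw [← Ideal.Quotient.eq_zero_iff_mem, hom_eval₂]
    exact hQ
  obtain ⟨h, hh0, hnu⟩ :=
    exists_ne_zero_not_isUnit_of_field (commonSubfield φ₁ φ₂).subtype a htr
  have hmap0 : h.map (commonSubfield φ₁ φ₂).subtype ≠ 0 :=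
    (Polynomial.map_ne_zero_iff (commonSubfield φ₁ φ₂).subtype.injective).mpr hh0
  rcases eq_zero_or_isUnit hidem φ₁ _ (isIntegralElem_eval₂_commonSubfield φ₁ φ₂ x hx h)
    with h0 | hu
  · apply htr
    refine ⟨_, hmap0, ?_⟩
    rw [key, h0, map_zero, map_zero]
  · apply hnu
    rw [key]
    exact (hu.map ρ).map (Ideal.Quotient.mk p)

include hidem in
theorem isIntegralElem_restrict (x : R) (hx : φ₁.IsIntegralElem x)
    {B : Type*} [CommRing B] [IsReduced B] [IsNoetherianRing B] (ρ : R →+* B)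
    (hft : (ρ.comp φ₂).FiniteType) : (ρ.comp φ₂).IsIntegralElem (ρ x) := by
  classical
  have hfin := minimalPrimes.finite_of_isNoetherianRing B
  have hex : ∀ p : Ideal B, ∃ Q : k₂[X], Q ≠ 0 ∧
      (p ∈ minimalPrimes B → eval₂ (ρ.comp φ₂) (ρ x) Q ∈ p) := by
    intro p
    by_cases hp : p ∈ minimalPrimes B
    · haveI : p.IsPrime := hp.1.1
      obtain ⟨Q, hQ0, hQ⟩ := isAlgebraic_quotient φ₁ φ₂ hidem x hx ρ hft p
      exact ⟨Q, hQ0, fun _ => hQ⟩
    · exact ⟨1, one_ne_zero, fun h => (hp h).elim⟩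
  choose Q hQ0 hQ using hex
  let P : k₂[X] := ∏ p ∈ hfin.toFinset, Q p
  have hP0 : P ≠ 0 := Finset.prod_ne_zero_iff.mpr (fun p _ => hQ0 p)
  have hPx : eval₂ (ρ.comp φ₂) (ρ x) P = 0 := by
    have hmem : eval₂ (ρ.comp φ₂) (ρ x) P ∈ nilradical B := by
      rw [nilradical, ← Ideal.sInf_minimalPrimes, Ideal.mem_sInf]
      intro p hp
      have hp' : p ∈ hfin.toFinset := hfin.mem_toFinset.mpr hp
      show eval₂ (ρ.comp φ₂) (ρ x) (∏ p ∈ hfin.toFinset, Q p) ∈ p
      rw [← Finset.mul_prod_erase _ _ hp', eval₂_mul]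
      exact Ideal.mul_mem_right _ _ (hQ p hp)
    exact (mem_nilradical.mp hmem).eq_zero
  letI := (ρ.comp φ₂).toAlgebra
  have halg : IsAlgebraic k₂ (ρ x) := ⟨P, hP0, hPx⟩
  exact halg.isIntegral

end Core

end Groth.Agent.Lib.Helper24.IntIndep
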