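import Mathlib
import Groth.Agent.Lib.Helper24.IntIndep.Core

/-!
# Integral closure of base field independent of base field: scheme part (helper24)
-/

set_option autoImplicit false
universe u
open CategoryTheory AlgebraicGeometry Opposite TopologicalSpace Polynomial

namespace Groth.Agent.Lib.Helper24.IntIndep

/-- Idempotents of a local ring. -/
theorem eq_zero_of_idempotent_not_isUnit {A : Type*} [CommRing A] [IsLocalRing A] (e : A)
    (he : IsIdempotentElem e) (hnu : ¬ IsUnit e) : e = 0 := by
  have h1 : IsUnit (1 - e) := by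
    rcases IsLocalRing.isUnit_or_isUnit_of_add_one (a := e) (b := 1 - e) (by ring) with h | h
    · exact (hnu h).elim
    · exact h
  have h2 : e * (1 - e) = 0 := by
    have : e * e = e := he
    rw [mul_sub, mul_one, this, sub_self]
  exact (h1.mul_left_eq_zero).mp h2

/-- Global idempotents on a connected reduced scheme are trivial. -/
theorem idempotent_trivial (X : Scheme.{u}) [IsReduced X] [ConnectedSpace X]
    (e : Γ(X, ⊤)) (he : IsIdempotentElem e) : e = 0 ∨ e = 1 := by
  have h2 : e * (1 - e) = 0 := by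
    have : e * e = e := he
    rw [mul_sub, mul_one, this, sub_self]
  have hdisj : (X.basicOpen e : Set X) ∩ (X.basicOpen (1 - e) : Set X) = ∅ := by
    have := X.basicOpen_mul e (1 - e)
    rw [h2, X.basicOpen_zero] at this
    have h3 := congrArg (fun U : X.Opens => (U : Set X)) this
    simpa using h3.symm
  have hcov : (X.basicOpen e : Set X) ∪ (X.basicOpen (1 - e) : Set X) = Set.univ := by
    rw [Set.eq_univ_iff_forall]
    intro y
    have h3 : X.presheaf.germ ⊤ y trivial e + X.presheaf.germ ⊤ y trivial (1 - e) = 1 := by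
      rw [← map_add, add_sub_cancel, map_one]
    rcases IsLocalRing.isUnit_or_isUnit_of_add_one h3 with h | h
    · left; exact (X.mem_basicOpen_top e y).mpr h
    · right; exact (X.mem_basicOpen_top (1 - e) y).mpr h
  have hclopen : IsClopen (X.basicOpen e : Set X) := by
    refine ⟨?_, (X.basicOpen e).2⟩
    have : (X.basicOpen e : Set X)ᶜ = (X.basicOpen (1 - e) : Set X) := by
      ext y
      constructor
      · intro hy
        have := hcov ▸ Set.mem_univ y
        rcases this with h | h
        · exact (hy h).elim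
        · exact h
      · intro hy hy'
        have : y ∈ (∅ : Set X) := hdisj ▸ ⟨hy', hy⟩
        exact this
    rw [← isOpen_compl_iff, this]
    exact (X.basicOpen (1 - e)).2
  rcases isClopen_iff.mp hclopen with h | h
  · left
    have : X.basicOpen e = ⊥ := by
      ext1
      simpa using h
    exact (basicOpen_eq_bot_iff e).mp this
  · right
    have h3 : (X.basicOpen (1 - e) : Set X) = ∅ := by
      rw [h, Set.univ_inter] at hdisj
      exact hdisj
    have : X.basicOpen (1 - e) = ⊥ := by
      ext1
      simpa using h3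
    have h4 := (basicOpen_eq_bot_iff (1 - e)).mp this
    exact (sub_eq_zero.mp h4).symm

theorem isIntegral_eval₂ {k B : Type*} [Field k] [CommRing B] [Algebra k B] (b : B)
    (hb : IsIntegral k b) (P : k[X]) : IsIntegral k (eval₂ (algebraMap k B) b P) := by
  rw [eval₂_eq_sum_range]
  exact IsIntegral.sum _ (fun i _ => isIntegral_algebraMap.mul (hb.pow i))

section Main

variable (X : Scheme.{u})

/-- The structure ring map. -/
noncomputable def glob {A : Type u} [CommRing A] (f : X ⟶ Spec (CommRingCat.of A)) :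
    A →+* Γ(X, ⊤) :=
  (f.appTop).hom.comp (Scheme.ΓSpecIso (CommRingCat.of A)).inv.hom

/-- Restriction of global sections. -/
noncomputable def res (U : X.Opens) : Γ(X, ⊤) →+* Γ(X, U) :=
  (X.presheaf.map (homOfLE (le_top : U ≤ ⊤)).op).hom

theorem germ_res (U : X.Opens) (y : X) (hy : y ∈ U) (s : Γ(X, ⊤)) :
    X.presheaf.germ U y hy (res X U s) = X.presheaf.germ ⊤ y trivial s :=
  TopCat.Presheaf.germ_res_apply X.presheaf (homOfLE (le_top : U ≤ ⊤)) y hy s

theorem finiteType_res_glob {k : Type u} [Field k] (b : X ⟶ Spec (CommRingCat.of k))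
    [LocallyOfFiniteType b] (U : X.Opens) (hU : IsAffineOpen U) :
    ((res X U).comp (glob X b)).FiniteType := by
  have e : U ≤ b ⁻¹ᵁ ⊤ := le_top
  have h1 : (b.appLE ⊤ U e).hom.FiniteType :=
    HasRingHomProperty.appLE @LocallyOfFiniteType b inferInstance
      ⟨⊤, isAffineOpen_top _⟩ ⟨U, hU⟩ e
  have h2 : (Scheme.ΓSpecIso (CommRingCat.of k)).inv.hom.FiniteType :=
    RingHom.FiniteType.of_surjective _
      (ConcreteCategory.bijective_of_isIso (Scheme.ΓSpecIso (CommRingCat.of k)).inv).2
  have h3 : (res X U).comp (glob X b) =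
      (b.appLE ⊤ U e).hom.comp (Scheme.ΓSpecIso (CommRingCat.of k)).inv.hom := by
    rfl
  rw [h3]
  exact h1.comp h2

variable [IsReduced X] [ConnectedSpace X] {k₁ k₂ : Type u} [Field k₁] [Field k₂]
  (a : X ⟶ Spec (CommRingCat.of k₁)) (b : X ⟶ Spec (CommRingCat.of k₂))
  [LocallyOfFiniteType a] [LocallyOfFiniteType b]

theorem main (x : Γ(X, ⊤)) (hx : (glob X a).IsIntegralElem x) :
    (glob X b).IsIntegralElem x := by
  haveI : Nonempty (⊤ : X.Opens) := by
    obtain ⟨y⟩ := (inferInstance : Nonempty X)
    exact ⟨⟨y, trivial⟩⟩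
  haveI : Nontrivial Γ(X, ⊤) := Scheme.component_nontrivial X ⊤
  have hidem := idempotent_trivial X
  have hloc : ∀ U : X.Opens, IsAffineOpen U →
      ((res X U).comp (glob X b)).IsIntegralElem (res X U x) := by
    intro U hU
    have hft := finiteType_res_glob X b U hU
    haveI : IsNoetherianRing Γ(X, U) := by
      letI := ((res X U).comp (glob X b)).toAlgebra
      haveI : Algebra.FiniteType k₂ Γ(X, U) := hft
      exact Algebra.FiniteType.isNoetherianRing k₂ _
    exact isIntegralElem_restrict (glob X a) (glob X b) hidem x hx (res X U) hft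
  obtain ⟨y₀⟩ := (inferInstance : Nonempty X)
  obtain ⟨U₀, hU₀, hy₀, -⟩ := Opens.isBasis_iff_nbhd.mp X.isBasis_affineOpens
    (show y₀ ∈ (⊤ : X.Opens) from trivial)
  obtain ⟨P, hPm, hP⟩ := hloc U₀ hU₀
  refine ⟨P, hPm, ?_⟩
  set s := eval₂ (glob X b) x P with hs
  have hres : ∀ U : X.Opens, res X U s = eval₂ ((res X U).comp (glob X b)) (res X U x) P := by
    intro U
    rw [hs, hom_eval₂]
  have hsU₀ : res X U₀ s = 0 := by rw [hres]; exact hP
  let W : Set X := {y | X.presheaf.germ ⊤ y trivial s = 0}
  have hWopen : IsOpen W := by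
    rw [isOpen_iff_forall_mem_open]
    intro y hy
    have hy' : X.presheaf.germ ⊤ y trivial s = X.presheaf.germ ⊤ y trivial 0 := by
      rw [map_zero]; exact hy
    obtain ⟨V, hyV, iU, iV, hV⟩ :=
      TopCat.Presheaf.germ_eq X.presheaf (U := ⊤) (V := ⊤) y trivial trivial s 0 hy'
    refine ⟨V, ?_, V.2, hyV⟩
    intro z hz
    show X.presheaf.germ ⊤ z trivial s = 0
    rw [← TopCat.Presheaf.germ_res_apply X.presheaf iU z hz s, hV, map_zero, map_zero]
  have hWclosed : IsClosed W := by
    rw [← isOpen_compl_iff, isOpen_iff_forall_mem_open]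
    intro y hy
    obtain ⟨U, hU, hyU, -⟩ := Opens.isBasis_iff_nbhd.mp X.isBasis_affineOpens
      (show y ∈ (⊤ : X.Opens) from trivial)
    letI := ((res X U).comp (glob X b)).toAlgebra
    have hint : IsIntegral k₂ (res X U s) := by
      rw [hres]
      exact isIntegral_eval₂ _ (hloc U hU) P
    obtain ⟨t, ht⟩ := exists_eq_sq_mul (k := k₂) (res X U s) hint
    set e := res X U s * t with he
    have hidem_e : IsIdempotentElem e := by
      show e * e = e
      calc e * e = (res X U s * res X U s * t) * t := by rw [he]; ring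
        _ = e := by rw [← ht]
    have hyV : y ∈ X.basicOpen e := by
      by_contra hyV
      rw [X.mem_basicOpen e y hyU] at hyV
      have h0 := eq_zero_of_idempotent_not_isUnit _ (hidem_e.map (X.presheaf.germ U y hyU).hom) hyV
      apply hy
      show X.presheaf.germ ⊤ y trivial s = 0
      rw [← germ_res X U y hyU s, ht, mul_assoc, ← he, map_mul]
      erw [h0]
      rw [mul_zero]
    refine ⟨X.basicOpen e, ?_, (X.basicOpen e).2, hyV⟩
    intro z hz0 hzW
    have hz : z ∈ X.basicOpen e := hz0
    have hzU : z ∈ U := X.basicOpen_le e hz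
    rw [X.mem_basicOpen e z hzU, he, map_mul] at hz
    have h1 : IsUnit (X.presheaf.germ U z hzU (res X U s)) := isUnit_of_mul_isUnit_left hz
    have h2 : X.presheaf.germ U z hzU (res X U s) = 0 := by
      rw [germ_res]; exact hzW
    rw [h2] at h1
    exact not_isUnit_zero h1
  have hWne : W.Nonempty := by
    refine ⟨y₀, ?_⟩
    show X.presheaf.germ ⊤ y₀ trivial s = 0
    rw [← germ_res X U₀ y₀ hy₀ s, hsU₀, map_zero]
  have hW : W = Set.univ := (isClopen_iff.mp ⟨hWclosed, hWopen⟩).resolve_left hWne.ne_empty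
  refine TopCat.Presheaf.section_ext X.sheaf ⊤ s 0 ?_
  intro y hy
  have : y ∈ W := hW ▸ Set.mem_univ y
  rw [map_zero]
  exact this

end Main

end Groth.Agent.Lib.Helper24.IntIndep
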